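import Groth.Prelude.Def_DRing2
import Groth.Agent.Lib.Flatness.Good
import Groth.Agent.Lib.HomDimCrit.Basic
import Mathlib.Algebra.Homology.ShortComplex.ModuleCat

/-!
# Finite Tor dimension seen on a flat resolution
-/

universe u

open CategoryTheory TensorProduct

namespace GrothLib.RelLift

variable {R : Type u} [CommRing R]

open GrothLib.Flatness

/-- Dimension shifting in both variables. -/
theorem good_shift {C' F C N' Q N : Type u} [AddCommGroup C'] [Module R C'] [AddCommGroup F]
    [Module R F] [AddCommGroup C] [Module R C] [AddCommGroup N'] [Module R N'] [AddCommGroup Q]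
    [Module R Q] [AddCommGroup N] [Module R N] [Module.Flat R F] [Module.Projective R Q]
    (a : C' →ₗ[R] F) (b : F →ₗ[R] C) (ha : Function.Injective a) (hab : Function.Exact a b)
    (hb : Function.Surjective b) (i : N' →ₗ[R] Q) (q : Q →ₗ[R] N) (hi : Function.Injective i)
    (hiq : Function.Exact i q) (hq : Function.Surjective q) (h : Good R C N') : Good R C' N := by
  obtain ⟨G, _, _, _, g, hg⟩ := GrothLib.HomDimCrit.exists_cover (R := R) N'
  have h0 : Function.Injective ((LinearMap.ker g).subtype.lTensor C) :=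
    h (LinearMap.ker g) G (LinearMap.ker g).subtype g Subtype.val_injective hg
      (LinearMap.exact_subtype_ker_map g)
  have h1 : Function.Injective (a.rTensor N') :=
    (LinearMap.lTensor_inj_iff_rTensor_inj (M := N') a).mp
      (GrothLib.HomDimCrit.lTensor_injective_swap (c := (LinearMap.ker g).subtype) (d := g) ha hab hb
        (LinearMap.exact_subtype_ker_map g) hg h0)
  have h2 := (Module.Flat.lTensor_preserves_injective_linearMap (M := F) i hi).comp h1
  rw [← LinearMap.coe_comp, LinearMap.lTensor_comp_rTensor, ← LinearMap.rTensor_comp_lTensor,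
    LinearMap.coe_comp] at h2
  exact Good.of_presentation i q hi hq hiq Good.of_projective h2.of_comp

/-- Pure intersection property of a submodule with good quotient. -/
theorem inf_smul_le_of_good {F : Type u} [AddCommGroup F] [Module R F] [Module.Flat R F]
    (K : Submodule R F) (I : Ideal R) (h : Good R (F ⧸ K) (R ⧸ I)) :
    K ⊓ I • (⊤ : Submodule R F) ≤ I • K := by
  have hinj : Function.Injective (K.subtype.lTensor (R ⧸ I)) :=
    GrothLib.HomDimCrit.lTensor_injective_swap (c := I.subtype) (d := I.mkQ) Subtype.val_injective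
      (LinearMap.exact_subtype_mkQ K) K.mkQ_surjective (LinearMap.exact_subtype_mkQ I) I.mkQ_surjective
      (h I R I.subtype I.mkQ I.injective_subtype I.mkQ_surjective (LinearMap.exact_subtype_mkQ I))
  rintro x ⟨hxK, hxI⟩
  have h0 : K.subtype.lTensor (R ⧸ I) ((Ideal.Quotient.mk I (1 : R)) ⊗ₜ[R] (⟨x, hxK⟩ : K)) = 0 := by
    rw [LinearMap.lTensor_tmul]
    refine (TensorProduct.quotTensorEquivQuotSMul F I).injective ?_
    rw [map_zero, TensorProduct.quotTensorEquivQuotSMul_mk_tmul, one_smul, Submodule.Quotient.mk_eq_zero]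
    exact hxI
  have h1 := congrArg (TensorProduct.quotTensorEquivQuotSMul K I) (hinj (h0.trans (map_zero _).symm))
  rw [map_zero, TensorProduct.quotTensorEquivQuotSMul_mk_tmul, one_smul,
    Submodule.Quotient.mk_eq_zero] at h1
  have h2 := Submodule.mem_map_of_mem (f := K.subtype) h1
  rwa [Submodule.map_smul'', Submodule.map_top, Submodule.range_subtype] at h2

/-- The high cokernels of a flat resolution of a module of finite Tor dimension have no `Tor₁`. -/
theorem good_cokernel {S : Type u} [AddCommGroup S] [Module R S] {n : ℕ}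
    (hn : DRing.HasTorDimLE R n S) (F : ℕ → Type u) [∀ i, AddCommGroup (F i)] [∀ i, Module R (F i)]
    [∀ i, Module.Flat R (F i)] (d : ∀ i, F (i + 1) →ₗ[R] F i) (ε : F 0 →ₗ[R] S)
    (hε : Function.Surjective ε) (h0 : Function.Exact (d 0) ε)
    (hd : ∀ i, Function.Exact (d (i + 1)) (d i)) (I : Ideal R) (m : ℕ) (hm : n ≤ m) :
    Good R (F m ⧸ LinearMap.range (d m)) (R ⧸ I) := by
  let P := projectiveResolution (ModuleCat.of R (R ⧸ I))
  haveI hP : ∀ j, Module.Projective R (P.complex.X j) := fun j =>
    (IsProjective.iff_projective _).2 (P.projective j)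
  let δ : ∀ j, P.complex.X (j + 1) →ₗ[R] P.complex.X j := fun j => (P.complex.d (j + 1) j).hom
  let q : P.complex.X 0 →ₗ[R] R ⧸ I := (P.π.f 0).hom
  have hq : Function.Surjective q :=
    (ModuleCat.epi_iff_surjective _).1 (inferInstance : Epi (P.π.f 0))
  have hδq : Function.Exact (δ 0) q := fun x =>
    ⟨fun hx => (ShortComplex.moduleCat_exact_iff _).1 P.exact₀ x hx, by
      rintro ⟨y, rfl⟩
      exact congrArg (fun f => f.hom y) P.complex_d_comp_π_f_zero⟩
  have hδ : ∀ j, Function.Exact (δ (j + 1)) (δ j) := fun j x => ⟨fun hx => by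
    have h1 := P.complex_exactAt_succ j
    rw [HomologicalComplex.exactAt_iff' _ (j + 2) (j + 1) j (by simp) (by simp),
      ShortComplex.moduleCat_exact_iff] at h1
    exact h1 x hx, by
    rintro ⟨y, rfl⟩
    exact congrArg (fun f => f.hom y) (P.complex.d_comp_d (j + 2) (j + 1) j)⟩
  -- cokernels
  let C : ℕ → Type u := fun j => F j ⧸ LinearMap.range (d j)
  let N : ℕ → Type u := fun j => P.complex.X j ⧸ LinearMap.range (δ j)
  have top : Good R S (N m) := by
    have hz : Subsingleton (DRing.Tor R (m + 1) S (R ⧸ I)) := hn (R ⧸ I) (m + 1) (by omega)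
    let G := (MonoidalCategory.tensoringLeft (ModuleCat.{u} R)).obj (ModuleCat.of R S)
    let Cx := (G.mapHomologicalComplex (ComplexShape.down ℕ)).obj P.complex
    have e : ((CategoryTheory.Tor (ModuleCat.{u} R) (m + 1)).obj (ModuleCat.of R S)).obj
        (ModuleCat.of R (R ⧸ I)) ≅ Cx.homology (m + 1) := P.isoLeftDerivedObj G (m + 1)
    have hzero : Limits.IsZero (Cx.homology (m + 1)) :=
      (@ModuleCat.isZero_of_subsingleton R _ _ hz).of_iso e.symm
    rw [← HomologicalComplex.exactAt_iff_isZero_homology,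
      HomologicalComplex.exactAt_iff' Cx (m + 2) (m + 1) m (by simp) (by simp),
      ShortComplex.moduleCat_exact_iff] at hzero
    have hzero' : ∀ x : S ⊗[R] P.complex.X (m + 1), (δ m).lTensor S x = 0 →
        ∃ y, (δ (m + 1)).lTensor S y = x := hzero
    let K := LinearMap.range (δ m)
    refine Good.of_presentation K.subtype K.mkQ K.injective_subtype K.mkQ_surjective
      (LinearMap.exact_subtype_mkQ K) Good.of_projective ((injective_iff_map_eq_zero _).2 fun y hy => ?_)
    obtain ⟨x, rfl⟩ := LinearMap.lTensor_surjective S (δ m).surjective_rangeRestrict y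
    rw [← LinearMap.lTensor_comp_apply] at hy
    obtain ⟨z, rfl⟩ := hzero' x hy
    rw [← LinearMap.lTensor_comp_apply,
      show (δ m).rangeRestrict ∘ₗ δ (m + 1) = 0 from
        LinearMap.ext fun w => Subtype.ext ((hδ m).apply_apply_eq_zero w),
      LinearMap.lTensor_zero, LinearMap.zero_apply]
  have zero : Good R (C 0) (N m) := by
    let e : C 0 ≃ₗ[R] S := (Submodule.quotEquivOfEq _ _ (LinearMap.exact_iff.mp h0).symm).trans
      (ε.quotKerEquivOfSurjective hε)
    intro A B _ _ _ _ i p hi hp hip x y hxy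
    refine (LinearEquiv.rTensor A e).injective (top A B i p hi hp hip ?_)
    have hcomm : i.lTensor S ∘ₗ e.toLinearMap.rTensor A = e.toLinearMap.rTensor B ∘ₗ i.lTensor (C 0) := by
      rw [LinearMap.lTensor_comp_rTensor, LinearMap.rTensor_comp_lTensor]
    exact (LinearMap.congr_fun hcomm x).trans ((congrArg _ hxy).trans (LinearMap.congr_fun hcomm y).symm)
  have step : ∀ j, j ≤ m → Good R (C j) (N (m - j)) := by
    intro j
    induction j with
    | zero => exact fun _ => zero
    | succ j ih =>
      intro hj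
      obtain ⟨r, hr⟩ : ∃ r, m - j = r + 1 := ⟨m - (j + 1), by omega⟩
      have hr' : m - (j + 1) = r := by omega
      have h1 := ih (by omega)
      rw [hr] at h1
      rw [hr']
      refine good_shift ((LinearMap.range (d (j + 1))).liftQ (d j) ?_) (LinearMap.range (d j)).mkQ ?_ ?_
        (Submodule.mkQ_surjective _) ((LinearMap.range (δ (r + 1))).liftQ (δ r) ?_)
        (LinearMap.range (δ r)).mkQ ?_ ?_ (Submodule.mkQ_surjective _) h1
      · exact (LinearMap.exact_iff.mp (hd j)).ge
      · rw [← LinearMap.ker_eq_bot]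
        exact Submodule.ker_liftQ_eq_bot _ _ _ (LinearMap.exact_iff.mp (hd j)).le
      · rw [LinearMap.exact_iff, Submodule.ker_mkQ, Submodule.range_liftQ]
      · exact (LinearMap.exact_iff.mp (hδ r)).ge
      · rw [← LinearMap.ker_eq_bot]
        exact Submodule.ker_liftQ_eq_bot _ _ _ (LinearMap.exact_iff.mp (hδ r)).le
      · rw [LinearMap.exact_iff, Submodule.ker_mkQ, Submodule.range_liftQ]
  have hm0 := step m le_rfl
  rw [Nat.sub_self] at hm0
  exact Good.of_equiv ((Submodule.quotEquivOfEq _ _ (LinearMap.exact_iff.mp hδq).symm).trans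
    (q.quotKerEquivOfSurjective hq)) hm0

/-- A flat resolution of a module of finite Tor dimension is pure in high degrees. -/
theorem exists_bound_of_hasFiniteTorDim {S : Type u} [AddCommGroup S] [Module R S]
    (h : DRing.HasFiniteTorDim R S) (F : ℕ → Type u) [∀ i, AddCommGroup (F i)] [∀ i, Module R (F i)]
    [∀ i, Module.Flat R (F i)] (d : ∀ i, F (i + 1) →ₗ[R] F i) (ε : F 0 →ₗ[R] S)
    (hε : Function.Surjective ε) (h0 : Function.Exact (d 0) ε)
    (hd : ∀ i, Function.Exact (d (i + 1)) (d i)) (I : Ideal R) :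
    ∃ n, ∀ i, n ≤ i → LinearMap.range (d i) ⊓ I • (⊤ : Submodule R (F i)) ≤ I • LinearMap.range (d i) :=
  h.imp fun _ hn m hm => inf_smul_le_of_good _ I (good_cokernel hn F d ε hε h0 hd I m hm)

end GrothLib.RelLift
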