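import Groth.Agent.Lib.RelLift.Koszul

/-!
# A lifted relation forces unbounded homology
-/

universe u

namespace GrothLib.RelLift

theorem exists_linearMap_smul_eq {A X Y : Type u} [CommRing A] [AddCommGroup X] [Module A X]
    [Module.Projective A X] [AddCommGroup Y] [Module A Y] (c : A) (η : X →ₗ[A] Y)
    (h : ∀ x, ∃ y, c • y = η x) : ∃ u : X →ₗ[A] Y, ∀ x, c • u x = η x := by
  let L : Y →ₗ[A] Y := c • LinearMap.id
  obtain ⟨u, hu⟩ := Module.projective_lifting_property L.rangeRestrict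
    (η.codRestrict (LinearMap.range L) fun x => (h x).imp fun y hy => hy) L.surjective_rangeRestrict
  exact ⟨u, fun x => congrArg Subtype.val (LinearMap.congr_fun hu x)⟩

theorem exists_free_resolution {A S : Type u} [CommRing A] [IsNoetherianRing A] [AddCommGroup S]
    [Module A S] (ε : (Fin 1 → A) →ₗ[A] S) :
    ∃ (rk : ℕ → ℕ) (h : rk 0 = 1) (d : ∀ i, (Fin (rk (i + 1)) → A) →ₗ[A] (Fin (rk i) → A)),
      (∀ x, (ε (fun j => x (Fin.cast h.symm j)) = 0 ↔ x ∈ LinearMap.range (d 0))) ∧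
      ∀ i, Function.Exact (d (i + 1)) (d i) := by
  let St : Type u := Σ a : ℕ, Σ b : ℕ, (Fin b → A) →ₗ[A] (Fin a → A)
  have cover : ∀ {a : ℕ} (K : Submodule A (Fin a → A)),
      ∃ (b : ℕ) (d : (Fin b → A) →ₗ[A] (Fin a → A)), LinearMap.range d = K := fun K => by
    obtain ⟨b, e, he⟩ := Module.Finite.exists_fin' A K
    exact ⟨b, K.subtype ∘ₗ e, by rw [LinearMap.range_comp, LinearMap.range_eq_top.mpr he,
      Submodule.map_top, Submodule.range_subtype]⟩
  choose nb nd hnd using @cover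
  let next : St → St := fun s => ⟨s.2.1, nb (LinearMap.ker s.2.2), nd (LinearMap.ker s.2.2)⟩
  let st : ℕ → St := fun i => Nat.rec ⟨1, nb (LinearMap.ker ε), nd (LinearMap.ker ε)⟩ (fun _ s => next s) i
  refine ⟨fun i => (st i).1, rfl, fun i => (st i).2.2, fun x => ?_, fun i => ?_⟩
  · show _ ↔ x ∈ LinearMap.range (nd (LinearMap.ker ε))
    rw [hnd]
    exact LinearMap.mem_ker.symm
  · exact LinearMap.exact_iff.mpr (hnd (LinearMap.ker (st i).2.2)).symm

variable {P' P : Type u} [CommRing P'] [CommRing P] [Algebra P' P]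

/-- Vectors with entries in `J`. -/
def vecIn (J : Ideal P) (a : ℕ) : Submodule P (Fin a → P) :=
  Submodule.pi Set.univ fun _ => J

theorem mem_vecIn {J : Ideal P} {a : ℕ} {x : Fin a → P} : x ∈ vecIn J a ↔ ∀ i, x i ∈ J := by
  simp [vecIn]

theorem apply_mem_vecIn {J : Ideal P} {a b : ℕ} (ℓ : (Fin a → P') →ₗ[P'] (Fin b → P))
    {x : Fin a → P'} (hx : ∀ i, algebraMap P' P (x i) ∈ J) : ℓ x ∈ vecIn J b := by
  classical
  rw [show x = ∑ i, x i • (Pi.single i 1 : Fin a → P') by funext k; simp [Finset.sum_apply, Pi.single_apply],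
    map_sum]
  refine sum_mem fun i _ => ?_
  rw [map_smul, mem_vecIn]
  intro k
  rw [Pi.smul_apply, Algebra.smul_def]
  exact J.mul_mem_right _ (hx i)

/-- The relation lemma in abstract form. -/
theorem exists_pow_mem {m : ℕ} (hΦ : Function.Surjective (algebraMap P' P)) (cf : P')
    (hker : RingHom.ker (algebraMap P' P) = Ideal.span {cf}) (J : Ideal P)
    (hJ : ∀ y, cf * y = 0 → algebraMap P' P y ∈ J) (r' f' : Fin m → P') (g : P')
    (hr : ∀ j, algebraMap P' P (r' j) ∈ J) (hsum : ∑ j, r' j * f' j = cf * g)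
    (rk : ℕ → ℕ) (h0 : rk 0 = 1) (d : ∀ i, (Fin (rk (i + 1)) → P) →ₗ[P] (Fin (rk i) → P))
    (hd0 : ∀ x, x (Fin.cast h0.symm 0) ∈ Ideal.span (Set.range fun j => algebraMap P' P (f' j)) ↔
      x ∈ LinearMap.range (d 0))
    (hd : ∀ i, Function.Exact (d (i + 1)) (d i)) (N : ℕ)
    (hpure : ∀ i, N ≤ i → ∀ x, d i x ∈ vecIn J (rk i) → ∃ y, x - d (i + 1) y ∈ vecIn J (rk (i + 1))) :
    ∃ k : ℕ, algebraMap P' P g ^ k ∈ Ideal.span (Set.range fun j => algebraMap P' P (f' j)) ⊔ J := by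
  classical
  let Φ := algebraMap P' P
  have hcf : Φ cf = 0 := RingHom.mem_ker.mp (hker.ge (Ideal.mem_span_singleton_self cf))
  have hcf0 : ∀ {a : ℕ} (v : Fin a → P), cf • v = 0 := fun v => by
    rw [← algebraMap_smul P, hcf, zero_smul]
  let V : ∀ a, (Fin a → P') →ₗ[P'] (Fin a → P) := fun a =>
    LinearMap.pi fun i => Algebra.linearMap P' P ∘ₗ LinearMap.proj i
  have hV : ∀ a, Function.Surjective (V a) := fun a x =>
    ⟨fun i => (hΦ (x i)).choose, funext fun i => (hΦ (x i)).choose_spec⟩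
  have hVker : ∀ a (x : Fin a → P'), V a x = 0 → ∃ y, cf • y = x := fun a x hx => by
    have h1 : ∀ i, ∃ c, c * cf = x i := fun i =>
      Ideal.mem_span_singleton'.mp (hker.le (congrFun hx i : Φ (x i) = 0))
    choose c hc using h1
    exact ⟨c, funext fun i => by rw [Pi.smul_apply, smul_eq_mul, mul_comm, hc]⟩
  have hVann : ∀ a (x : Fin a → P'), cf • x = 0 → V a x ∈ vecIn J a := fun a x hx =>
    mem_vecIn.mpr fun i => hJ _ (congrFun hx i)
  -- lifts of the differentials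
  choose dt hdt using fun i => Module.projective_lifting_property (V (rk i))
    ((d i).restrictScalars P' ∘ₗ V (rk (i + 1))) (hV _)
  have hdt' : ∀ i x, V (rk i) (dt i x) = d i (V (rk (i + 1)) x) := fun i x =>
    LinearMap.congr_fun (hdt i) x
  choose h hh using fun i => exists_linearMap_smul_eq cf (dt i ∘ₗ dt (i + 1)) fun x => hVker _ _ (by
    rw [LinearMap.comp_apply, hdt', hdt', (hd i).apply_apply_eq_zero])
  -- the source complex
  let φ : Module.Dual P' (Fin m → P') := Fintype.linearCombination P' f'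
  have hφ : φ r' = cf * g := by
    show ∑ j, r' j • f' j = cf * g
    simpa [smul_eq_mul] using hsum
  let G : ℕ → Submodule P' (ℕ → ExteriorAlgebra P' (Fin m → P')) := piece P' (Fin m → P')
  haveI hG : ∀ i, Module.Projective P' (G i) := projective_piece
  let δ : ∀ i, G (i + 1) →ₗ[P'] G i := delta φ r'
  have hδδ : ∀ i (x : G (i + 2)), δ i (δ (i + 1) x) = (cf * g) • shift i x := fun i x =>
    (delta_delta φ r' i x).trans (by rw [hφ])
  -- the comparison map
  let Ψ := fun i => {ψ : G i →ₗ[P'] (Fin (rk i) → P) // ∀ x, ψ (δ i x) ∈ LinearMap.range (d i)}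
  let ψ₀ : Ψ 0 := ⟨V (rk 0) ∘ₗ LinearMap.pi fun _ => scalar, fun x => by
    rw [← hd0]
    obtain ⟨a, ha⟩ := exists_scalar_delta φ r' x
    show Φ (scalar (δ 0 x)) ∈ _
    rw [ha, show φ a = ∑ j, a j * f' j from rfl, map_sum]
    refine sum_mem fun j _ => ?_
    rw [map_mul]
    exact Ideal.mul_mem_left _ _ (Ideal.subset_span ⟨j, rfl⟩)⟩
  have step : ∀ i (ψ : Ψ i), ∃ ψ' : Ψ (i + 1), ∀ x, d i (ψ'.1 x) = ψ.1 (δ i x) := by
    intro i ψ
    obtain ⟨L, hL⟩ := Module.projective_lifting_property ((d i).restrictScalars P').rangeRestrict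
      ((ψ.1 ∘ₗ δ i).codRestrict (LinearMap.range ((d i).restrictScalars P')) fun x => ψ.2 x)
      (LinearMap.surjective_rangeRestrict _)
    have hL' : ∀ x, d i (L x) = ψ.1 (δ i x) := fun x => congrArg Subtype.val (LinearMap.congr_fun hL x)
    refine ⟨⟨L, fun x => (hd i _).mp ?_⟩, hL'⟩
    rw [hL', hδδ, map_smul, mul_smul, hcf0]
  choose nxt hnxt using step
  let ψ : ∀ i, Ψ i := fun i => Nat.rec ψ₀ (fun j p => nxt j p) i
  have hψ : ∀ i x, d i ((ψ (i + 1)).1 x) = (ψ i).1 (δ i x) := fun i x => hnxt i (ψ i) x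
  choose ψt hψt using fun i => Module.projective_lifting_property (V (rk i)) (ψ i).1 (hV _)
  have hψt' : ∀ i x, V (rk i) (ψt i x) = (ψ i).1 x := fun i x => LinearMap.congr_fun (hψt i) x
  choose v hv using fun i => exists_linearMap_smul_eq cf (dt i ∘ₗ ψt (i + 1) - ψt i ∘ₗ δ i)
    fun x => hVker _ _ (by
      rw [LinearMap.sub_apply, map_sub, LinearMap.comp_apply, LinearMap.comp_apply, hdt', hψt',
        hψt', hψ, sub_self])
  have hv' : ∀ i x, dt i (ψt (i + 1) x) = ψt i (δ i x) + cf • v i x := fun i x => by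
    rw [hv, LinearMap.sub_apply, LinearMap.comp_apply, LinearMap.comp_apply, add_sub_cancel]
  have hid : ∀ i (x : G (i + 2)), V (rk i) (h i (ψt (i + 2) x) -
      (g • ψt i (shift i x) + v i (δ (i + 1) x) + dt i (v (i + 1) x))) ∈ vecIn J (rk i) := by
    intro i x
    refine hVann _ _ ?_
    have e1 : cf • h i (ψt (i + 2) x) = dt i (dt (i + 1) (ψt (i + 1 + 1) x)) := hh i _
    rw [smul_sub, e1, hv' (i + 1), map_add, hv' i, hδδ, map_smul, map_smul, mul_smul, smul_add,
      smul_add, sub_self]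
  let t : ∀ k, Fin (rk (2 * k)) → P' := fun k => ψt (2 * k) (Tpow k)
  have claim : ∀ k (c : P') (y : Fin (rk (2 * k + 1)) → P'),
      V (rk (2 * k)) (c • t k - dt (2 * k) y) ∈ vecIn J (rk (2 * k)) →
        Φ c * Φ g ^ k ∈ Ideal.span (Set.range fun j => Φ (f' j)) ⊔ J := by
    intro k
    induction k with
    | zero =>
      intro c y hy
      rw [map_sub, map_smul, hdt'] at hy
      have ht0 : V (rk (2 * 0)) (t 0) (Fin.cast h0.symm 0) = 1 := by
        rw [hψt']
        show Φ (scalar (Tpow 0)) = 1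
        rw [scalar_Tpow_zero, map_one]
      have h1 := mem_vecIn.mp hy (Fin.cast h0.symm 0)
      rw [Pi.sub_apply, Pi.smul_apply, ht0, Algebra.smul_def, mul_one] at h1
      rw [pow_zero, mul_one, show Φ c = (d 0 (V (rk 1) y)) (Fin.cast h0.symm 0) +
        (Φ c - (d 0 (V (rk 1) y)) (Fin.cast h0.symm 0)) by ring]
      exact Submodule.add_mem _ (Ideal.mem_sup_left ((hd0 _).mpr ⟨_, rfl⟩)) (Ideal.mem_sup_right h1)
    | succ k ih =>
      intro c y hy
      rw [pow_succ', ← mul_assoc, ← map_mul]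
      refine ih (c * g) (h (2 * k + 1) y - c • v (2 * k + 1) (Tpow (k + 1))) ?_
      have hJh : ∀ x : Fin (rk (2 * k + 2)) → P', V _ x ∈ vecIn J _ →
          V (rk (2 * k)) (h (2 * k) x) ∈ vecIn J (rk (2 * k)) :=
        fun x hx => apply_mem_vecIn (V _ ∘ₗ h (2 * k)) (mem_vecIn.mp hx)
      have h2 := hJh _ hy
      have h3 := hid (2 * k) (Tpow (k + 1))
      rw [shift_Tpow] at h3
      have h4 : V (rk (2 * k)) (h (2 * k) (dt (2 * k + 2) y) - dt (2 * k) (h (2 * k + 1) y)) ∈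
          vecIn J (rk (2 * k)) := by
        refine hVann _ _ ?_
        rw [smul_sub, hh, ← map_smul, hh]
        exact sub_self _
      have h5 : V (rk (2 * k)) (v (2 * k) (δ (2 * k + 1) (Tpow (k + 1)))) ∈ vecIn J (rk (2 * k)) := by
        show V _ (v _ (delta φ r' (2 * k + 1) (Tpow (k + 1)))) ∈ _
        rw [delta_Tpow]
        exact apply_mem_vecIn (V _ ∘ₗ v (2 * k) ∘ₗ linT k) hr
      rw [map_sub (h (2 * k)), map_smul (h (2 * k))] at h2
      have hsm : ∀ {x : Fin (rk (2 * k)) → P}, x ∈ vecIn J (rk (2 * k)) → c • x ∈ vecIn J (rk (2 * k)) :=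
        fun hx => by rw [← algebraMap_smul P]; exact Submodule.smul_mem _ _ hx
      have key : V (rk (2 * k)) ((c * g) • t k -
            dt (2 * k) (h (2 * k + 1) y - c • v (2 * k + 1) (Tpow (k + 1)))) =
          V _ (c • h (2 * k) (t (k + 1)) - h (2 * k) (dt (2 * k + 2) y)) -
            c • V _ (h (2 * k) (t (k + 1)) - (g • t k + v (2 * k) (δ (2 * k + 1) (Tpow (k + 1))) +
              dt (2 * k) (v (2 * k + 1) (Tpow (k + 1))))) -
            c • V _ (v (2 * k) (δ (2 * k + 1) (Tpow (k + 1)))) +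
            V _ (h (2 * k) (dt (2 * k + 2) y) - dt (2 * k) (h (2 * k + 1) y)) := by
        simp only [map_sub, map_add, map_smul, mul_smul, smul_sub, smul_add]
        abel
      rw [key]
      exact Submodule.add_mem _ (Submodule.sub_mem _ (Submodule.sub_mem _ h2 (hsm h3)) (hsm h5)) h4
  -- the class dies in high degree
  have hcyc : d (2 * N + 1) (V (rk (2 * (N + 1))) (t (N + 1))) ∈ vecIn J (rk (2 * N + 1)) := by
    show d (2 * N + 1) (V (rk (2 * N + 1 + 1)) (ψt (2 * N + 1 + 1) (Tpow (N + 1)))) ∈ _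
    rw [hψt', hψ]
    show (ψ (2 * N + 1)).1 (delta φ r' (2 * N + 1) (Tpow (N + 1))) ∈ _
    rw [delta_Tpow]
    exact apply_mem_vecIn ((ψ (2 * N + 1)).1 ∘ₗ linT N) hr
  obtain ⟨y, hy⟩ := hpure (2 * N + 1) (by omega) _ hcyc
  obtain ⟨y, rfl⟩ := hV _ y
  refine ⟨N + 1, ?_⟩
  have := claim (N + 1) 1 y (by rw [one_smul, map_sub, hdt']; exact hy)
  rwa [map_one, one_mul] at this

end GrothLib.RelLift
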