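import Mathlib

/-!
# A Koszul complex with a divided power variable, with curvature

For a linear form `φ` on a free module `M` and `z ∈ M` the maps `x ↦ (b ↦ φ⌋x_b + z ∧ x_{b+1})`
square to `φ z` times the shift.
-/

universe u

namespace GrothLib.RelLift

variable {R M : Type u} [CommRing R] [AddCommGroup M] [Module R M]

/-- Degree `i` part of `⋀ M ⟨T⟩`. -/
def piece (R M : Type u) [CommRing R] [AddCommGroup M] [Module R M] (i : ℕ) :
    Submodule R (ℕ → ExteriorAlgebra R M) where
  carrier := {x | ∀ b, (2 * b ≤ i → x b ∈ (⋀[R]^(i - 2 * b) M : Submodule R (ExteriorAlgebra R M))) ∧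
    (i < 2 * b → x b = 0)}
  add_mem' {x y} hx hy b :=
    ⟨fun h => Submodule.add_mem _ ((hx b).1 h) ((hy b).1 h),
      fun h => by rw [Pi.add_apply, (hx b).2 h, (hy b).2 h, add_zero]⟩
  zero_mem' b := ⟨fun _ => Submodule.zero_mem _, fun _ => rfl⟩
  smul_mem' c x hx b :=
    ⟨fun h => Submodule.smul_mem _ c ((hx b).1 h),
      fun h => by rw [Pi.smul_apply, (hx b).2 h, smul_zero]⟩

theorem projective_piece [Module.Free R M] (i : ℕ) : Module.Projective R (piece R M i) := by
  let f : piece R M i →ₗ[R] ((b : Fin (i / 2 + 1)) → ⋀[R]^(i - 2 * (b : ℕ)) M) :=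
    { toFun := fun x b => ⟨x.1 b, (x.2 b).1 (by have := b.2; omega)⟩
      map_add' := fun _ _ => rfl
      map_smul' := fun _ _ => rfl }
  let g : ((b : Fin (i / 2 + 1)) → ⋀[R]^(i - 2 * (b : ℕ)) M) →ₗ[R] piece R M i :=
    { toFun := fun y => ⟨fun b => if h : b < i / 2 + 1 then (y ⟨b, h⟩).1 else 0, fun b =>
        ⟨fun hb => by
          dsimp only
          rw [dif_pos (show b < i / 2 + 1 by omega)]
          exact (y ⟨b, _⟩).2, fun hb => dif_neg (by omega)⟩⟩
      map_add' := fun y z => by
        refine Subtype.ext (funext fun b => ?_)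
        show (if h : b < i / 2 + 1 then ((y + z) ⟨b, h⟩).1 else 0) =
          (if h : b < i / 2 + 1 then (y ⟨b, h⟩).1 else 0) + (if h : b < i / 2 + 1 then (z ⟨b, h⟩).1 else 0)
        split_ifs <;> simp
      map_smul' := fun c y => by
        refine Subtype.ext (funext fun b => ?_)
        show (if h : b < i / 2 + 1 then ((c • y) ⟨b, h⟩).1 else 0) =
          c • (if h : b < i / 2 + 1 then (y ⟨b, h⟩).1 else 0)
        split_ifs <;> simp }
  refine Module.Projective.of_split f g (LinearMap.ext fun x => Subtype.ext (funext fun b => ?_))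
  show (if h : b < i / 2 + 1 then x.1 b else 0) = x.1 b
  by_cases h : b < i / 2 + 1
  · rw [dif_pos h]
  · rw [dif_neg h, (x.2 b).2 (by omega)]

variable (φ : Module.Dual R M) (z : M)

/-- Contraction with `φ`. -/
noncomputable def contr : ExteriorAlgebra R M →ₗ[R] ExteriorAlgebra R M :=
  CliffordAlgebra.contractLeft φ

theorem contr_ι_mul (a : M) (b : ExteriorAlgebra R M) :
    contr φ (ExteriorAlgebra.ι R a * b) = φ a • b - ExteriorAlgebra.ι R a * contr φ b :=
  CliffordAlgebra.contractLeft_ι_mul φ a b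

theorem contr_algebraMap (r : R) : contr φ (algebraMap R (ExteriorAlgebra R M) r) = 0 :=
  CliffordAlgebra.contractLeft_algebraMap _ φ r

theorem contr_contr (x : ExteriorAlgebra R M) : contr φ (contr φ x) = 0 :=
  CliffordAlgebra.contractLeft_contractLeft φ x

theorem contr_eq_zero {x : ExteriorAlgebra R M} (hx : x ∈ (⋀[R]^0 M : Submodule R (ExteriorAlgebra R M))) :
    contr φ x = 0 := by
  rw [ExteriorAlgebra.exteriorPower, pow_zero, Submodule.one_eq_range] at hx
  obtain ⟨r, rfl⟩ := hx
  exact contr_algebraMap φ r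

theorem contr_mem : ∀ (j : ℕ) {x : ExteriorAlgebra R M},
    x ∈ (⋀[R]^(j + 1) M : Submodule R (ExteriorAlgebra R M)) →
      contr φ x ∈ (⋀[R]^j M : Submodule R (ExteriorAlgebra R M)) := by
  intro j
  induction j with
  | zero =>
    intro x hx
    rw [ExteriorAlgebra.exteriorPower, zero_add, pow_one] at hx
    obtain ⟨a, rfl⟩ := hx
    rw [← mul_one (ExteriorAlgebra.ι R a), contr_ι_mul,
      show contr φ (1 : ExteriorAlgebra R M) = 0 by
        rw [← map_one (algebraMap R (ExteriorAlgebra R M))]; exact contr_algebraMap φ 1,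
      mul_zero, sub_zero]
    rw [ExteriorAlgebra.exteriorPower, pow_zero]
    exact Submodule.smul_mem _ _ (Submodule.one_le.mp le_rfl)
  | succ j ih =>
    intro x hx
    rw [ExteriorAlgebra.exteriorPower, pow_succ'] at hx
    induction hx using Submodule.mul_induction_on' with
    | mem_mul_mem a ha b hb =>
      obtain ⟨a, rfl⟩ := ha
      rw [contr_ι_mul]
      refine Submodule.sub_mem _ (Submodule.smul_mem _ _ hb) ?_
      rw [ExteriorAlgebra.exteriorPower, pow_succ']
      exact Submodule.mul_mem_mul ⟨a, rfl⟩ (ih hb)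
    | add a _ b _ iha ihb => rw [map_add]; exact Submodule.add_mem _ iha ihb

theorem ι_mul_mem {j : ℕ} {x : ExteriorAlgebra R M}
    (hx : x ∈ (⋀[R]^j M : Submodule R (ExteriorAlgebra R M))) :
    ExteriorAlgebra.ι R z * x ∈ (⋀[R]^(j + 1) M : Submodule R (ExteriorAlgebra R M)) := by
  rw [ExteriorAlgebra.exteriorPower, pow_succ']
  exact Submodule.mul_mem_mul ⟨z, rfl⟩ hx

/-- The differential. -/
noncomputable def delta (i : ℕ) : piece R M (i + 1) →ₗ[R] piece R M i where
  toFun x := ⟨fun b => contr φ (x.1 b) + ExteriorAlgebra.ι R z * x.1 (b + 1), fun b =>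
    ⟨fun hb => by
      refine Submodule.add_mem _ ?_ ?_
      · refine contr_mem φ _ ?_
        have h := (x.2 b).1 (by omega)
        rwa [show i + 1 - 2 * b = i - 2 * b + 1 by omega] at h
      · by_cases h2 : 2 * (b + 1) ≤ i + 1
        · have h := ι_mul_mem z ((x.2 (b + 1)).1 h2)
          rwa [show i + 1 - 2 * (b + 1) + 1 = i - 2 * b by omega] at h
        · rw [(x.2 (b + 1)).2 (by omega), mul_zero]
          exact Submodule.zero_mem _,
    fun hb => by
      show contr φ (x.1 b) + ExteriorAlgebra.ι R z * x.1 (b + 1) = 0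
      rw [(x.2 (b + 1)).2 (by omega), mul_zero, add_zero]
      by_cases h : i + 1 < 2 * b
      · rw [(x.2 b).2 h, map_zero]
      · refine contr_eq_zero φ ?_
        have h' := (x.2 b).1 (by omega)
        rwa [show i + 1 - 2 * b = 0 by omega] at h'⟩⟩
  map_add' x y := Subtype.ext (funext fun b => by
    simp only [Submodule.coe_add, Pi.add_apply, map_add, mul_add]
    abel)
  map_smul' c x := Subtype.ext (funext fun b => by
    simp only [Submodule.coe_smul, Pi.smul_apply, map_smul, mul_smul_comm, smul_add, RingHom.id_apply])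

theorem delta_val (i : ℕ) (x : piece R M (i + 1)) (b : ℕ) :
    (delta φ z i x).1 b = contr φ (x.1 b) + ExteriorAlgebra.ι R z * x.1 (b + 1) :=
  rfl

/-- The shift `T^{(k+1)} ↦ T^{(k)}`. -/
def shift (i : ℕ) : piece R M (i + 2) →ₗ[R] piece R M i where
  toFun x := ⟨fun b => x.1 (b + 1), fun b =>
    ⟨fun hb => by
      have h := (x.2 (b + 1)).1 (by omega)
      rwa [show i + 2 - 2 * (b + 1) = i - 2 * b by omega] at h,
    fun hb => (x.2 (b + 1)).2 (by omega)⟩⟩
  map_add' _ _ := rfl
  map_smul' _ _ := rfl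

theorem delta_delta (i : ℕ) (x : piece R M (i + 2)) :
    delta φ z i (delta φ z (i + 1) x) = φ z • shift i x := by
  refine Subtype.ext (funext fun b => ?_)
  rw [delta_val, delta_val, delta_val, map_add, contr_contr, contr_ι_mul, Submodule.coe_smul,
    Pi.smul_apply]
  show _ = φ z • x.1 (b + 1)
  rw [mul_add, ← mul_assoc, ExteriorAlgebra.ι_sq_zero, zero_mul]
  abel

/-- `T^{(k)}`. -/
def Tpow (k : ℕ) : piece R M (2 * k) :=
  ⟨Pi.single k 1, fun b => by
    by_cases h : b = k
    · subst h
      refine ⟨fun _ => ?_, fun h => by omega⟩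
      rw [Pi.single_eq_same, Nat.sub_self, ExteriorAlgebra.exteriorPower, pow_zero]
      exact Submodule.one_le.mp le_rfl
    · rw [Pi.single_eq_of_ne h]
      exact ⟨fun _ => Submodule.zero_mem _, fun _ => rfl⟩⟩

theorem shift_Tpow (k : ℕ) :
    shift (2 * k) (Tpow (R := R) (M := M) (k + 1) : piece R M (2 * k + 2)) = Tpow k := by
  refine Subtype.ext (funext fun b => ?_)
  show (Pi.single (k + 1) 1 : ℕ → ExteriorAlgebra R M) (b + 1) = (Pi.single k 1 : ℕ → ExteriorAlgebra R M) b
  simp only [Pi.single_apply, Nat.add_right_cancel_iff]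

/-- `v T^{(k)}` for `v ∈ M`. -/
noncomputable def linT (k : ℕ) : M →ₗ[R] piece R M (2 * k + 1) where
  toFun v := ⟨Pi.single k (ExteriorAlgebra.ι R v), fun b => by
    by_cases h : b = k
    · subst h
      refine ⟨fun _ => ?_, fun h => by omega⟩
      rw [Pi.single_eq_same, show 2 * b + 1 - 2 * b = 1 by omega, ExteriorAlgebra.exteriorPower, pow_one]
      exact ⟨v, rfl⟩
    · rw [Pi.single_eq_of_ne h]
      exact ⟨fun _ => Submodule.zero_mem _, fun _ => rfl⟩⟩
  map_add' v w := Subtype.ext (by simp [Pi.single_add])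
  map_smul' c v := Subtype.ext (by simp [Pi.single_smul])

theorem delta_Tpow (k : ℕ) :
    delta φ z (2 * k + 1) (Tpow (R := R) (M := M) (k + 1) : piece R M (2 * k + 2)) = linT k z := by
  refine Subtype.ext (funext fun b => ?_)
  rw [delta_val]
  show contr φ ((Pi.single (k + 1) 1 : ℕ → ExteriorAlgebra R M) b) +
    ExteriorAlgebra.ι R z * (Pi.single (k + 1) 1 : ℕ → ExteriorAlgebra R M) (b + 1) =
      (Pi.single k (ExteriorAlgebra.ι R z) : ℕ → ExteriorAlgebra R M) b
  have h1 : contr φ (1 : ExteriorAlgebra R M) = 0 := by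
    rw [← map_one (algebraMap R (ExteriorAlgebra R M))]; exact contr_algebraMap φ 1
  simp only [Pi.single_apply, Nat.add_right_cancel_iff]
  split_ifs <;> simp [h1]

/-- The scalar part of an element of degree zero. -/
noncomputable def scalar : piece R M 0 →ₗ[R] R where
  toFun x := ExteriorAlgebra.algebraMapInv (x.1 0)
  map_add' x y := by simp
  map_smul' c x := by simp

theorem scalar_Tpow_zero : scalar (R := R) (M := M) (Tpow 0) = 1 := by
  show ExteriorAlgebra.algebraMapInv ((Pi.single 0 1 : ℕ → ExteriorAlgebra R M) 0) = 1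
  rw [Pi.single_eq_same, map_one]

theorem exists_scalar_delta (x : piece R M 1) : ∃ a : M, scalar (delta φ z 0 x) = φ a := by
  have h := (x.2 0).1 (by omega)
  have h' := (x.2 1).2 (by omega)
  rw [show 1 - 2 * 0 = 1 by omega, ExteriorAlgebra.exteriorPower, pow_one] at h
  obtain ⟨a, ha⟩ := h
  refine ⟨a, ?_⟩
  show ExteriorAlgebra.algebraMapInv (contr φ (x.1 0) + ExteriorAlgebra.ι R z * x.1 (0 + 1)) = φ a
  rw [h', mul_zero, add_zero, ← ha, ← mul_one (ExteriorAlgebra.ι R a), contr_ι_mul,
    ← map_one (algebraMap R (ExteriorAlgebra R M)), contr_algebraMap, mul_zero, sub_zero,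
    map_smul, map_one, map_one, smul_eq_mul, mul_one]

end GrothLib.RelLift
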